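import Cfsg.Agent.BpExc.LangFr

/-!
# The abstract datum for Deligne-Lusztig theory (helper10)

`k` is an algebraically closed, locally finite field of characteristic `p`.  An ambient group `Y` carries a faithful
representation `ρ : Y →* GL N k` and an automorphism `F` some power of which is a standard Frobenius map (`Amb p ρ F`).

`Datum p ρ F G` : `G ≤ Y` is a connected reductive group, given in coordinates together with an `F`-stable maximal torus
`T = τ (R → kˣ)` and a Borel subgroup `B = T U` containing it (`U = Sup X Pos`); `F` permutes the root groups but need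
not fix `U`.  The finite group is `GF F G = G ⊓ fix F`.
-/

set_option autoImplicit false
set_option linter.unusedSectionVars false

namespace Cfsg.Agent.DL

open CoxeterSystem Cfsg.Agent.ChevalleyStructure.CoxeterGeom Cfsg.Agent.Tits.Roots Cfsg.Agent.Nodes.Reps
  Cfsg.Agent.Nodes.BNOf Cfsg.Agent.Nodes.Bruhat Cfsg.Agent.LangThm

/-! ### monomial characters of `R → kˣ` -/

section Mon

variable {R : Type} [Fintype R] {k : Type} [Field k]

/-- the character `c ↦ ∏ c j ^ m j` -/
def chr (m : R → ℤ) : (R → kˣ) →* kˣ where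
  toFun c := ∏ j, c j ^ m j
  map_one' := by simp
  map_mul' a b := by simp [mul_zpow, Finset.prod_mul_distrib]

theorem chr_apply (m : R → ℤ) (c : R → kˣ) : chr m c = ∏ j, c j ^ m j := rfl

/-- the cocharacter `a ↦ (a ^ m j)_j` -/
def coch (m : R → ℤ) : kˣ →* (R → kˣ) where
  toFun a j := a ^ m j
  map_one' := by funext j; simp
  map_mul' a b := by funext j; simp [mul_zpow]

omit [Fintype R] in
theorem coch_apply (m : R → ℤ) (a : kˣ) (j : R) : coch m a j = a ^ m j := rfl

/-- the monomial endomorphism with exponent matrix `Mx` -/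
def mon (Mx : Matrix R R ℤ) : (R → kˣ) →* (R → kˣ) where
  toFun c i := chr (Mx i) c
  map_one' := by funext i; simp
  map_mul' a b := by funext i; simp

theorem mon_apply (Mx : Matrix R R ℤ) (c : R → kˣ) (i : R) : mon Mx c i = chr (Mx i) c := rfl

end Mon

/-! ### the ambient group -/

section Amb

variable {k : Type} [Field k] {Y : Type} [Group Y] {N : Type} [Fintype N] [DecidableEq N]

/-- the fixed points of an automorphism -/
def fix (F : MulAut Y) : Subgroup Y := F.toMonoidHom.eqLocus (MonoidHom.id Y)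

theorem mem_fix {F : MulAut Y} {y : Y} : y ∈ fix F ↔ F y = y := Iff.rfl

/-- the finite group `G^F` -/
def GF (F : MulAut Y) (G : Subgroup Y) : Subgroup Y := G ⊓ fix F

theorem mem_GF {F : MulAut Y} {G : Subgroup Y} {y : Y} : y ∈ GF F G ↔ y ∈ G ∧ F y = y := Iff.rfl

/-- the elements whose matrix has entries in the field with `p ^ e` elements -/
noncomputable def lev (p : ℕ) [Fact p.Prime] [CharP k p] (ρ : Y →* GL N k) (e : ℕ) : Subgroup Y :=
  ((frob p e).comp ρ).eqLocus ρ

theorem mem_lev {p : ℕ} [Fact p.Prime] [CharP k p] {ρ : Y →* GL N k} {e : ℕ} {y : Y} :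
    y ∈ lev p ρ e ↔ frob p e (ρ y) = ρ y := Iff.rfl

/-- The ambient setting: a faithful representation over a locally finite field and a Steinberg endomorphism. -/
structure Amb (p : ℕ) [Fact p.Prime] [CharP k p] (ρ : Y →* GL N k) (F : MulAut Y) : Prop where
  lf : ∀ a : k, ∃ m, 0 < m ∧ a ^ p ^ m = a
  inj : Function.Injective ρ
  frob : ∃ d e, 0 < d ∧ 0 < e ∧ ∀ y, ρ ((F ^ d) y) = frob p e (ρ y)

end Amb

/-! ### the datum -/

/-- A connected reductive group `G` with an `F`-stable maximal torus `T` and a Borel subgroup containing it. -/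
structure Datum (p : ℕ) [Fact p.Prime] {k : Type} [Field k] [CharP k p] {Y : Type} [Group Y] {N : Type} [Fintype N]
    [DecidableEq N] (ρ : Y →* GL N k) (F : MulAut Y) (G : Subgroup Y) where
  amb : Amb p ρ F
  /-- simple roots -/
  I : Type
  [fI : Fintype I]
  [dI : DecidableEq I]
  /-- Weyl group -/
  W : Type
  [gW : Group W]
  [fW : Finite W]
  M : CoxeterMatrix I
  cs : CoxeterSystem M W
  A : I → I → ℤ
  h : IsCartan M A
  /-- coordinates of the torus -/
  R : Type
  [fR : Fintype R]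
  [dR : DecidableEq R]
  τ : (R → kˣ) →* Y
  τ_inj : Function.Injective τ
  T : Subgroup Y
  mem_T : ∀ t, t ∈ T ↔ ∃ c, τ c = t
  /-- root groups and their coordinates -/
  X : (I → ℤ) → Subgroup Y
  x : (I → ℤ) → k → Y
  mem_X : ∀ a, IsRoot cs h a → ∀ y, y ∈ X a ↔ ∃ u, x a u = y
  x_inj : ∀ a, IsRoot cs h a → Function.Injective (x a)
  x_add : ∀ a, IsRoot cs h a → ∀ u v, x a (u + v) = x a u * x a v
  n : I → Y
  /-- roots as characters, simple coroots as cocharacters -/
  wt : (I → ℤ) →+ (R → ℤ)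
  cw : I → R → ℤ
  pair : ∀ i a, ∑ j, wt a j * cw i j = pairing A i a
  tor : ∀ a, IsRoot cs h a → ∀ c u, τ c * x a u * (τ c)⁻¹ = x a ((chr (wt a) c : kˣ) * u)
  refl : ∀ i c, n i * τ c * (n i)⁻¹ = τ (c * (coch (cw i) (chr (wt (sr i)) c))⁻¹)
  /-- root group data at all (sufficiently divisible) finite levels -/
  rgd : ∃ e, 0 < e ∧ ∀ m, 0 < m → RGD cs h p (T ⊓ lev p ρ (e * m)) n (fun a => X a ⊓ lev p ρ (e * m))
  G_eq : GG cs h T X = G
  /-- the representation is algebraic -/
  polyx : ∀ a, IsRoot cs h a → ∀ i j, ∃ f : Polynomial k, ∀ u, (ρ (x a u) : Matrix N N k) i j = f.eval u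
  diag : ∃ (g₀ : GL N k) (μ : N → R → ℤ), ∀ c,
    ((g₀⁻¹ * ρ (τ c) * g₀ : GL N k) : Matrix N N k) = Matrix.diagonal fun i => ((chr (μ i) c : kˣ) : k)
  /-- `F` permutes the root groups and normalises the torus -/
  g : (I → ℤ) → (I → ℤ)
  ex : (I → ℤ) → ℕ
  g_root : ∀ a, IsRoot cs h a → IsRoot cs h (g a)
  F_x : ∀ a, IsRoot cs h a → ∃ c : k, c ≠ 0 ∧ ∀ u, F (x a u) = x (g a) (c * u ^ p ^ ex a)
  Mx : Matrix R R ℤ
  F_τ : ∀ c, F (τ c) = τ (mon Mx c)

namespace Datum

attribute [instance] fI dI gW fW fR dR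

variable {p : ℕ} [Fact p.Prime] {k : Type} [Field k] [CharP k p] {Y : Type} [Group Y] {N : Type} [Fintype N]
  [DecidableEq N] {ρ : Y →* GL N k} {F : MulAut Y} {G : Subgroup Y} (D : Datum p ρ F G)

/-- the roots -/
abbrev Rt (a : D.I → ℤ) : Prop := IsRoot D.cs D.h a

/-- the group generated by the root groups of a set of roots -/
abbrev S (S : Set (D.I → ℤ)) : Subgroup Y := RGD.Sup D.X S

/-- the unipotent radical of the Borel subgroup -/
abbrev U : Subgroup Y := RGD.Sup D.X (RGD.Pos D.cs D.h)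

/-- the Borel subgroup -/
abbrev B : Subgroup Y := RGD.B D.cs D.h D.T D.X

/-- the finite torus `T^F` -/
abbrev TF : Subgroup Y := GF F D.T

/-- the action of the Weyl group on the root lattice -/
noncomputable abbrev act (w : D.W) (a : D.I → ℤ) : D.I → ℤ := rep D.cs D.h w a

theorem T_eq : D.T = D.τ.range := by
  ext t
  exact D.mem_T t

theorem τ_mem (c : D.R → kˣ) : D.τ c ∈ D.T := (D.mem_T _).2 ⟨c, rfl⟩

theorem x_mem {a : D.I → ℤ} (ha : D.Rt a) (u : k) : D.x a u ∈ D.X a := (D.mem_X a ha _).2 ⟨u, rfl⟩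

open Classical in
/-- the torus coordinates of an element of `T` -/
noncomputable def crd (t : Y) : D.R → kˣ := if ht : t ∈ D.T then ((D.mem_T t).1 ht).choose else 1

theorem τ_crd {t : Y} (ht : t ∈ D.T) : D.τ (D.crd t) = t := by
  unfold crd
  rw [dif_pos ht]
  exact ((D.mem_T t).1 ht).choose_spec

theorem crd_τ (c : D.R → kˣ) : D.crd (D.τ c) = c := D.τ_inj (D.τ_crd (D.τ_mem c))

/-- the root `a` as a function on `T` -/
noncomputable def χ (a : D.I → ℤ) (t : Y) : k := (chr (D.wt a) (D.crd t) : kˣ)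

theorem χ_τ (a : D.I → ℤ) (c : D.R → kˣ) : D.χ a (D.τ c) = (chr (D.wt a) c : kˣ) := by
  rw [χ, crd_τ]

/-- The Deligne-Lusztig variety of a subgroup `V` (usually `V = D.U` or the unipotent radical of a parabolic subgroup
with an `F`-stable Levi complement): `y⁻¹ * F y ∈ F(V)`. -/
def _root_.Cfsg.Agent.DL.DLVar (F : MulAut Y) (G V : Subgroup Y) : Set Y :=
  {y | y ∈ G ∧ F⁻¹ (y⁻¹ * F y) ∈ V}

end Datum

end Cfsg.Agent.DL
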